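import Groth.Agent.AffineComp.Main
import Groth.Agent.AffineComp.Relative
import Groth.Agent.RedSepLib.Reduced

/-! Affine opens containing images of points with isomorphic local rings. -/

set_option autoImplicit false
set_option backward.isDefEq.respectTransparency.types false
universe u
open CategoryTheory CategoryTheory.Limits AlgebraicGeometry TopologicalSpace

namespace Groth.Agent.AffineComp

theorem isIntegral_vanishingIdeal {X : Scheme.{u}} (C : Closeds X) (hC : IsIrreducible (C : Set X)) :
    IsIntegral (Scheme.IdealSheafData.vanishingIdeal C).subscheme := by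
  have : IsReduced (Scheme.IdealSheafData.vanishingIdeal C).subscheme :=
    RedSepLib.isReduced_vanishingIdeal C
  let j := (Scheme.IdealSheafData.vanishingIdeal C).subschemeι
  have hr : Set.range j = (C : Set X) := RedSepLib.range_vanishingIdeal_subschemeι C
  have : IrreducibleSpace (Scheme.IdealSheafData.vanishingIdeal C).subscheme := by
    obtain ⟨y, hy⟩ : hC.genericPoint ∈ Set.range j := by
      rw [hr]
      have := hC.isGenericPoint_genericPoint_closure.mem
      rwa [C.isClosed.closure_eq] at this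
    have hgp : IsGenericPoint y Set.univ := by
      refine isGenericPoint_iff_specializes.2 fun z => ⟨fun _ => trivial, fun _ => ?_⟩
      refine j.isClosedEmbedding.isInducing.specializes_iff.1 ?_
      rw [hy]
      exact hC.isGenericPoint_genericPoint_closure.specializes
        (subset_closure (hr ▸ (⟨z, rfl⟩ : j z ∈ Set.range j)))
    exact { toPreirreducibleSpace := ⟨hgp.isIrreducible.isPreirreducible⟩, toNonempty := ⟨y⟩ }
  exact isIntegral_of_irreducibleSpace_of_isReduced _

theorem exists_affineOpen_images {T X : Scheme.{u}} (f : T ⟶ X) [IsAffine T] [QuasiSeparatedSpace X]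
    (hX : (irreducibleComponents (X : Type u)).Finite)
    (hgen : ∀ η : T, closure ({η} : Set T) ∈ irreducibleComponents (T : Type u) →
      closure ({(f.base η)} : Set X) ∈ irreducibleComponents (X : Type u))
    (hinj : ∀ η η' : T, closure ({η} : Set T) ∈ irreducibleComponents (T : Type u) →
      closure ({η'} : Set T) ∈ irreducibleComponents (T : Type u) → f.base η = f.base η' → η = η')
    (s : Finset T) (hs : ∀ t ∈ s, IsIso (f.stalkMap t)) :
    ∃ U : X.Opens, IsAffineOpen U ∧ ∀ t ∈ s, f.base t ∈ U := by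
  classical
  suffices h : ∃ U : X.Opens, IsAffineOpen U ∧ ∀ x ∈ s.image f, x ∈ U by
    obtain ⟨U, hU, hsU⟩ := h
    exact ⟨U, hU, fun t ht => hsU _ (Finset.mem_image_of_mem f ht)⟩
  refine exists_affineOpen_of_per_component hX (s.image f) fun Z hZ => ?_
  by_cases hne : ∃ t ∈ s, f t ∈ Z
  swap
  · refine ⟨⊥, isAffineOpen_bot _, fun x hx hxZ => absurd hxZ fun h => ?_⟩
    obtain ⟨t, ht, rfl⟩ := Finset.mem_image.1 hx
    exact hne ⟨t, ht, h⟩
  let ξ : X := hZ.1.genericPoint
  have hξ : IsGenericPoint ξ Z := by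
    have := hZ.1.isGenericPoint_genericPoint_closure
    rwa [(isClosed_of_mem_irreducibleComponents Z hZ).closure_eq] at this
  have hgenT : ∀ t ∈ s, f t ∈ Z → ∃ η : T, closure ({η} : Set T) ∈ irreducibleComponents (T : Type u) ∧
      η ⤳ t ∧ f η = ξ := by
    intro t ht htZ
    have hiso := hs t ht
    obtain ⟨p, hp⟩ : ξ ∈ Set.range (X.fromSpecStalk (f t)) := by
      rw [Scheme.range_fromSpecStalk]; exact hξ.specializes htZ
    obtain ⟨q₀, hq₀⟩ := (Spec.map (f.stalkMap t)).homeomorph.surjective p
    let q := T.fromSpecStalk t q₀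
    have hqt : q ⤳ t := by
      have : q ∈ Set.range (T.fromSpecStalk t) := ⟨q₀, rfl⟩
      rwa [Scheme.range_fromSpecStalk] at this
    have hfq : f q = ξ := by
      rw [← Scheme.Hom.comp_apply, ← Scheme.SpecMap_stalkMap_fromSpecStalk, Scheme.Hom.comp_apply,
        show (Spec.map (f.stalkMap t)) q₀ = p from hq₀, hp]
    have hc := irreducibleComponent_mem_irreducibleComponents q
    have hη : IsGenericPoint hc.1.genericPoint (irreducibleComponent q) := by
      have := hc.1.isGenericPoint_genericPoint_closure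
      rwa [isClosed_irreducibleComponent.closure_eq] at this
    have hηc : closure ({hc.1.genericPoint} : Set T) ∈ irreducibleComponents (T : Type u) := by
      rw [hη.def]; exact hc
    have hηq : hc.1.genericPoint ⤳ q := hη.specializes mem_irreducibleComponent
    refine ⟨_, hηc, hηq.trans hqt, ?_⟩
    have h1 : f hc.1.genericPoint ⤳ ξ := hfq ▸ hηq.map f.continuous
    have h2 := hgen _ hηc
    have hle : Z ⊆ closure {f hc.1.genericPoint} := by
      rw [← hξ.def]
      exact closure_minimal (Set.singleton_subset_iff.2 h1.mem_closure) isClosed_closure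
    exact (h1.antisymm (hξ.specializes (hZ.2 h2.1 hle (subset_closure rfl)))).eq
  obtain ⟨t₀, ht₀, ht₀Z⟩ := hne
  obtain ⟨η, hηc, -, hfη⟩ := hgenT t₀ ht₀ ht₀Z
  have hmem : ∀ t ∈ s, f t ∈ Z → t ∈ closure ({η} : Set T) := by
    intro t ht htZ
    obtain ⟨η', hη'c, hη't, hfη'⟩ := hgenT t ht htZ
    rw [hinj η η' hηc hη'c (hfη.trans hfη'.symm)]
    exact hη't.mem_closure
  let C : Closeds T := ⟨closure ({η} : Set T), isClosed_closure⟩
  let D : Closeds X := ⟨Z, isClosed_of_mem_irreducibleComponents Z hZ⟩
  let jT := (Scheme.IdealSheafData.vanishingIdeal C).subschemeι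
  let jX := (Scheme.IdealSheafData.vanishingIdeal D).subschemeι
  have : IsIntegral (Scheme.IdealSheafData.vanishingIdeal C).subscheme :=
    isIntegral_vanishingIdeal C hηc.1
  have : IsIntegral (Scheme.IdealSheafData.vanishingIdeal D).subscheme :=
    isIntegral_vanishingIdeal D hZ.1
  have : IsAffine (Scheme.IdealSheafData.vanishingIdeal C).subscheme := isAffine_of_isAffineHom jT
  have : QuasiSeparatedSpace (Scheme.IdealSheafData.vanishingIdeal D).subscheme :=
    quasiSeparatedSpace_of_quasiSeparated jX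
  have hrX : Set.range jX = Z := RedSepLib.range_vanishingIdeal_subschemeι D
  have hrT : Set.range jT = closure ({η} : Set T) := RedSepLib.range_vanishingIdeal_subschemeι C
  have hsub : Set.range (jT ≫ f) ⊆ Set.range jX := by
    rintro _ ⟨y, rfl⟩
    rw [hrX, Scheme.Hom.comp_apply, ← hξ.def, ← hfη]
    have hy : jT y ∈ closure ({η} : Set T) := hrT ▸ ⟨y, rfl⟩
    exact ((specializes_iff_mem_closure.2 hy).map f.continuous).mem_closure
  obtain ⟨g, hg⟩ := RedSepLib.exists_lift_of_range_subset (jT ≫ f) jX hsub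
  have hpt : ∀ y, jX (g y) = f (jT y) := fun y => by
    rw [← Scheme.Hom.comp_apply, hg, Scheme.Hom.comp_apply]
  have : IsDominant g := by
    refine ⟨?_⟩
    obtain ⟨yη, hyη⟩ : η ∈ Set.range jT := hrT ▸ subset_closure rfl
    intro x
    have hspec : g yη ⤳ x := by
      refine jX.isClosedEmbedding.isInducing.specializes_iff.1 ?_
      rw [hpt, hyη, hfη]
      exact hξ.specializes (hrX ▸ (⟨x, rfl⟩ : jX x ∈ Set.range jX))
    exact closure_mono (Set.singleton_subset_iff.2 (Set.mem_range_self yη)) hspec.mem_closure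
  have hfinS : (jT ⁻¹' {t | t ∈ s ∧ f t ∈ Z}).Finite :=
    (s.finite_toSet.subset fun t ht => ht.1).preimage jT.isClosedEmbedding.injective.injOn
  have hstalk : ∀ y ∈ hfinS.toFinset, IsIso (g.stalkMap y) := by
    intro y hy
    have hy' := hfinS.mem_toFinset.1 hy
    rw [ConcreteCategory.isIso_iff_bijective]
    refine ⟨stalkMap_injective_of_isDominant g y, fun z => ?_⟩
    obtain ⟨w, hw⟩ := jT.stalkMap_surjective y z
    have hiso := hs _ hy'.1
    obtain ⟨v, hv⟩ := (ConcreteCategory.bijective_of_isIso (f.stalkMap (jT y))).2 w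
    have key : ∀ (F : (Scheme.IdealSheafData.vanishingIdeal C).subscheme ⟶ X), jT ≫ f = F →
        ∃ v', F.stalkMap y v' = z := by
      rintro _ rfl
      refine ⟨v, ?_⟩
      rw [Scheme.Hom.stalkMap_comp]
      exact (congrArg (jT.stalkMap y) hv).trans hw
    obtain ⟨v', hv'⟩ := key _ hg.symm
    rw [Scheme.Hom.stalkMap_comp] at hv'
    exact ⟨_, hv'⟩
  obtain ⟨V, hV, hsV⟩ := exists_affineOpen_of_dominant g hfinS.toFinset hstalk
  refine ⟨V, hV, fun x hx hxZ => ?_⟩
  obtain ⟨t, ht, rfl⟩ := Finset.mem_image.1 hx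
  obtain ⟨y, hy⟩ : t ∈ Set.range jT := hrT ▸ hmem t ht hxZ
  refine ⟨g y, hsV y (hfinS.mem_toFinset.2 ⟨hy ▸ ht, hy ▸ hxZ⟩), ?_⟩
  show jX (g y) = f t
  rw [hpt, hy]

end Groth.Agent.AffineComp
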