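import Mathlib.AlgebraicGeometry.Morphisms.Separated
import Mathlib.AlgebraicGeometry.Morphisms.ClosedImmersion
import Groth.Agent.AffineComp.Alg

/-! Matching affine opens on two closed subschemes around finitely many points. -/

set_option autoImplicit false
universe u
open CategoryTheory AlgebraicGeometry TopologicalSpace

namespace Groth.Agent.AffineComp

open Scheme.IdealSheafData

variable {X : Scheme.{u}}

instance isClosedImmersion_inclusion {I J : X.IdealSheafData} (h : I ≤ J) :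
    IsClosedImmersion (inclusion h) := by
  have : IsClosedImmersion (inclusion h ≫ I.subschemeι) := by
    rw [inclusion_subschemeι]; infer_instance
  exact IsClosedImmersion.of_comp _ I.subschemeι

theorem subschemeι_inclusion_apply {I J : X.IdealSheafData} (h : I ≤ J) (x : J.subscheme) :
    I.subschemeι (inclusion h x) = J.subschemeι x := by
  rw [← Scheme.Hom.comp_apply, inclusion_subschemeι]

/-- Points of two closed subschemes with the same image come from their intersection. -/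
theorem exists_sup_point (I J : X.IdealSheafData) (y₁ : I.subscheme) (y₂ : J.subscheme)
    (h : I.subschemeι y₁ = J.subschemeι y₂) :
    ∃ x : (I ⊔ J).subscheme, inclusion (le_sup_left : I ≤ I ⊔ J) x = y₁ ∧
      inclusion (le_sup_right : J ≤ I ⊔ J) x = y₂ := by
  have h1 : I.subschemeι y₁ ∈ (I ⊔ J).support := by
    rw [support_sup]
    constructor
    · show I.subschemeι y₁ ∈ (I.support : Set X)
      rw [← range_subschemeι]; exact ⟨y₁, rfl⟩
    · show I.subschemeι y₁ ∈ (J.support : Set X)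
      rw [← range_subschemeι, h]; exact ⟨y₂, rfl⟩
  obtain ⟨x, hx⟩ : I.subschemeι y₁ ∈ Set.range (I ⊔ J).subschemeι := by
    rw [range_subschemeι]; exact h1
  refine ⟨x, I.subschemeι.isClosedEmbedding.injective ?_,
    J.subschemeι.isClosedEmbedding.injective ?_⟩
  · rw [subschemeι_inclusion_apply, hx]
  · rw [subschemeι_inclusion_apply, hx, h]

/-- Lifting a standard open through a closed immersion while keeping finitely many points. -/
theorem exists_lift_avoiding {Z P : Scheme.{u}} (p : P ⟶ Z) [IsClosedImmersion p] {A : Z.Opens}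
    (hA : IsAffineOpen A) (c : Γ(P, p ⁻¹ᵁ A)) (T : Set Z) (hT : T.Finite) (hTA : ∀ t ∈ T, t ∈ A)
    (hTc : ∀ x : P, p x ∈ T → x ∈ P.basicOpen c) :
    ∃ f : Γ(Z, A), p ⁻¹ᵁ Z.basicOpen f = P.basicOpen c ∧ ∀ t ∈ T, t ∈ Z.basicOpen f := by
  classical
  obtain ⟨f₀, hf₀⟩ := p.app_surjective A hA c
  have hmem : ∀ (t : Z) (ht : t ∈ A) (g : Γ(Z, A)),
      t ∈ Z.basicOpen g ↔ g ∉ (hA.primeIdealOf ⟨t, ht⟩).asIdeal := by
    intro t ht g
    have := hA.fromSpec_preimage_basicOpen g
    constructor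
    · intro htg
      have h2 : hA.primeIdealOf ⟨t, ht⟩ ∈ hA.fromSpec ⁻¹ᵁ Z.basicOpen g := by
        show hA.fromSpec (hA.primeIdealOf ⟨t, ht⟩) ∈ Z.basicOpen g
        rw [hA.fromSpec_primeIdealOf]; exact htg
      rw [this] at h2; exact h2
    · intro hg
      have h2 : hA.primeIdealOf ⟨t, ht⟩ ∈ hA.fromSpec ⁻¹ᵁ Z.basicOpen g := by rw [this]; exact hg
      have h3 : hA.fromSpec (hA.primeIdealOf ⟨t, ht⟩) ∈ Z.basicOpen g := h2
      rwa [hA.fromSpec_primeIdealOf] at h3
  have : Finite T := hT.to_subtype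
  have := Fintype.ofFinite T
  obtain ⟨z, hz, hza⟩ := exists_add_notMem (RingHom.ker (p.app A).hom) f₀
    (Finset.univ.image (fun t : T => (hA.primeIdealOf ⟨t.1, hTA t.1 t.2⟩).asIdeal))
    (by
      intro q hq
      obtain ⟨t, -, rfl⟩ := Finset.mem_image.1 hq
      exact PrimeSpectrum.isPrime _)
    (by
      intro q hq hle
      obtain ⟨⟨t, ht⟩, -, rfl⟩ := Finset.mem_image.1 hq
      by_cases hr : t ∈ Set.range p
      · obtain ⟨x, rfl⟩ := hr
        rw [← hmem]
        have h2 : x ∈ P.basicOpen (p.app A f₀) := by rw [hf₀]; exact hTc x ht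
        rw [← Scheme.preimage_basicOpen] at h2
        exact h2
      · exfalso
        obtain ⟨g, hg, hgle⟩ := exists_basicOpen_le_of_finite hA
          ⟨(Set.range p)ᶜ, p.isClosedEmbedding.isClosed_range.isOpen_compl⟩ {t}
          (Set.finite_singleton t) (fun z hz => hz ▸ hTA t ht) (fun z hz => hz ▸ hr)
        have hbot : P.basicOpen (p.app A g) = ⊥ := by
          rw [← Scheme.preimage_basicOpen, eq_bot_iff]
          intro x hx
          exact absurd ⟨x, rfl⟩ (hgle hx)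
        obtain ⟨n, hn⟩ := (Scheme.isNilpotent_iff_basicOpen_eq_bot_of_isCompact
          (hA.preimage p).isCompact _).2 hbot
        have h3 : g ^ n ∈ (hA.primeIdealOf ⟨t, hTA t ht⟩).asIdeal := hle (by
          rw [RingHom.mem_ker, map_pow]; exact hn)
        exact (hmem t (hTA t ht) g).1 (hg t rfl)
          ((PrimeSpectrum.isPrime _).mem_of_pow_mem n h3))
  refine ⟨f₀ + z, ?_, fun t ht => (hmem t (hTA t ht) _).2
    (hza _ (Finset.mem_image.2 ⟨⟨t, ht⟩, Finset.mem_univ _, rfl⟩))⟩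
  rw [Scheme.preimage_basicOpen, map_add, RingHom.mem_ker.1 hz, add_zero, hf₀]

/-- Affine opens around a finite set on two closed subschemes can be shrunk so as to come from one
open of the ambient scheme. -/
theorem exists_open_two (I J : X.IdealSheafData) (T : Set X) (hT : T.Finite)
    (V₁ : I.subscheme.Opens) (hV₁ : IsAffineOpen V₁) (hT₁ : ∀ y, I.subschemeι y ∈ T → y ∈ V₁)
    (V₂ : J.subscheme.Opens) (hV₂ : IsAffineOpen V₂) (hT₂ : ∀ y, J.subschemeι y ∈ T → y ∈ V₂) :
    ∃ U : X.Opens, (∀ t ∈ T, t ∈ U) ∧ IsAffineOpen (I.subschemeι ⁻¹ᵁ U) ∧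
      IsAffineOpen (J.subschemeι ⁻¹ᵁ U) := by
  let p := inclusion (le_sup_left : I ≤ I ⊔ J)
  let q := inclusion (le_sup_right : J ≤ I ⊔ J)
  have hp : ∀ x, I.subschemeι (p x) = (I ⊔ J).subschemeι x := subschemeι_inclusion_apply _
  have hq : ∀ x, J.subschemeι (q x) = (I ⊔ J).subschemeι x := subschemeι_inclusion_apply _
  have hT1fin : (I.subschemeι ⁻¹' T).Finite :=
    hT.preimage I.subschemeι.isClosedEmbedding.injective.injOn
  have hT2fin : (J.subschemeι ⁻¹' T).Finite :=
    hT.preimage J.subschemeι.isClosedEmbedding.injective.injOn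
  obtain ⟨a, ha, hale⟩ := exists_basicOpen_le_of_finite hV₁
    ⟨(p '' ((q ⁻¹ᵁ V₂ : (I ⊔ J).subscheme.Opens) : Set (I ⊔ J).subscheme)ᶜ)ᶜ,
      (p.isClosedEmbedding.isClosedMap _ (q ⁻¹ᵁ V₂).2.isClosed_compl).isOpen_compl⟩
    (I.subschemeι ⁻¹' T) hT1fin hT₁ (by
      intro y hy
      rintro ⟨x, hx, rfl⟩
      refine hx (hT₂ _ ?_)
      have : I.subschemeι (p x) ∈ T := hy
      rw [hp] at this
      rwa [hq])
  have hpa : p ⁻¹ᵁ I.subscheme.basicOpen a ≤ q ⁻¹ᵁ V₂ := by
    intro x hx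
    by_contra hc
    exact hale hx ⟨x, hc, rfl⟩
  obtain ⟨b, hb, hble⟩ := exists_basicOpen_le_of_finite hV₂
    ⟨(q '' ((p ⁻¹ᵁ I.subscheme.basicOpen a : (I ⊔ J).subscheme.Opens) :
        Set (I ⊔ J).subscheme)ᶜ)ᶜ,
      (q.isClosedEmbedding.isClosedMap _
        (p ⁻¹ᵁ I.subscheme.basicOpen a).2.isClosed_compl).isOpen_compl⟩
    (J.subschemeι ⁻¹' T) hT2fin hT₂ (by
      intro y hy
      rintro ⟨x, hx, rfl⟩
      refine hx (ha _ ?_)
      show I.subschemeι (p x) ∈ T
      have : J.subschemeι (q x) ∈ T := hy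
      rw [hq] at this
      rwa [hp])
  have hqb : q ⁻¹ᵁ J.subscheme.basicOpen b ≤ p ⁻¹ᵁ I.subscheme.basicOpen a := by
    intro x hx
    by_contra hc
    exact hble hx ⟨x, hc, rfl⟩
  let c : Γ((I ⊔ J).subscheme, p ⁻¹ᵁ I.subscheme.basicOpen a) :=
    (I ⊔ J).subscheme.presheaf.map (homOfLE hpa).op (q.app V₂ b)
  have hc : (I ⊔ J).subscheme.basicOpen c = q ⁻¹ᵁ J.subscheme.basicOpen b := by
    rw [Scheme.basicOpen_res, ← Scheme.preimage_basicOpen]
    exact inf_eq_right.2 hqb
  obtain ⟨f, hf, hTf⟩ := exists_lift_avoiding p (hV₁.basicOpen a) c (I.subschemeι ⁻¹' T) hT1fin ha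
    (by
      intro x hx
      rw [hc]
      refine hb _ ?_
      show J.subschemeι (q x) ∈ T
      have : I.subschemeι (p x) ∈ T := hx
      rw [hp] at this
      rwa [hq])
  rw [hc] at hf
  set D₁ := I.subscheme.basicOpen f
  set D₂ := J.subscheme.basicOpen b
  refine ⟨⟨(I.subschemeι '' (D₁ : Set I.subscheme)ᶜ ∪ J.subschemeι '' (D₂ : Set J.subscheme)ᶜ)ᶜ,
    ((I.subschemeι.isClosedEmbedding.isClosedMap _ D₁.2.isClosed_compl).union
      (J.subschemeι.isClosedEmbedding.isClosedMap _ D₂.2.isClosed_compl)).isOpen_compl⟩,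
    ?_, ?_, ?_⟩
  · rintro t ht (⟨y, hy, rfl⟩ | ⟨y, hy, rfl⟩)
    · exact hy (hTf y ht)
    · exact hy (hb y ht)
  · convert (hV₁.basicOpen a).basicOpen f using 1
    ext y
    show ¬ (_ ∨ _) ↔ _
    constructor
    · intro h
      by_contra hy
      exact h (Or.inl ⟨y, hy, rfl⟩)
    · intro hy
      rintro (⟨y', hy', he⟩ | ⟨y', hy', he⟩)
      · exact hy' (I.subschemeι.isClosedEmbedding.injective he ▸ hy)
      · obtain ⟨x, hx1, hx2⟩ := exists_sup_point I J y y' he.symm
        have h1 : x ∈ p ⁻¹ᵁ D₁ := by show p x ∈ D₁; rw [hx1]; exact hy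
        rw [hf] at h1
        exact hy' (hx2 ▸ h1)
  · convert hV₂.basicOpen b using 1
    ext y
    show ¬ (_ ∨ _) ↔ _
    constructor
    · intro h
      by_contra hy
      exact h (Or.inr ⟨y, hy, rfl⟩)
    · intro hy
      rintro (⟨y', hy', he⟩ | ⟨y', hy', he⟩)
      · obtain ⟨x, hx1, hx2⟩ := exists_sup_point I J y' y he
        have h1 : x ∈ q ⁻¹ᵁ D₂ := by show q x ∈ D₂; rw [hx2]; exact hy
        rw [← hf] at h1
        exact hy' (hx1 ▸ h1)
      · exact hy' (J.subschemeι.isClosedEmbedding.injective he ▸ hy)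

end Groth.Agent.AffineComp
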