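import Mathlib.AlgebraicGeometry.Morphisms.Affine
import Groth.Agent.AffineComp.Match

/-! An open whose traces on two closed subschemes are affine is affine on their scheme union. -/

set_option autoImplicit false
universe u
open CategoryTheory AlgebraicGeometry TopologicalSpace Opposite

namespace Groth.Agent.AffineComp

open Scheme.IdealSheafData

variable {X : Scheme.{u}} {I J K : X.IdealSheafData}

theorem le_preimage_inclusion (h : K ≤ I) (U : X.Opens) :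
    I.subschemeι ⁻¹ᵁ U ≤ inclusion h ⁻¹ᵁ (K.subschemeι ⁻¹ᵁ U) := by
  rw [← Scheme.Hom.comp_preimage, inclusion_subschemeι]

/-- Restriction of functions to a smaller closed subscheme. -/
noncomputable def res (h : K ≤ I) (U : X.Opens) :
    Γ(K.subscheme, K.subschemeι ⁻¹ᵁ U) ⟶ Γ(I.subscheme, I.subschemeι ⁻¹ᵁ U) :=
  (inclusion h).appLE _ _ (le_preimage_inclusion h U)

theorem res_map (h : K ≤ I) {U V : X.Opens} (e : V ≤ U)
    (r : Γ(K.subscheme, K.subschemeι ⁻¹ᵁ U)) :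
    res h V (K.subscheme.presheaf.map (homOfLE (K.subschemeι.preimage_mono e)).op r) =
      I.subscheme.presheaf.map (homOfLE (I.subschemeι.preimage_mono e)).op (res h U r) := by
  simp only [res, ← CommRingCat.comp_apply, Scheme.Hom.map_appLE, Scheme.Hom.appLE_map]

theorem res_app (h : K ≤ I) (U : X.Opens) (x : Γ(X, U)) :
    res h U (K.subschemeι.app U x) = I.subschemeι.app U x := by
  simp only [res, Scheme.Hom.app_eq_appLE, ← CommRingCat.comp_apply,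
    Scheme.Hom.appLE_comp_appLE, inclusion_subschemeι]

theorem basicOpen_res_eq (h : K ≤ I) (U : X.Opens) (r : Γ(K.subscheme, K.subschemeι ⁻¹ᵁ U))
    (y : I.subscheme) :
    y ∈ I.subscheme.basicOpen (res h U r) ↔
      y ∈ I.subschemeι ⁻¹ᵁ U ∧ inclusion h y ∈ K.subscheme.basicOpen r := by
  rw [res, Scheme.basicOpen_appLE]
  exact Iff.rfl

theorem res_surjective (h : K ≤ I) (U : X.Opens) (hU : IsAffineOpen (K.subschemeι ⁻¹ᵁ U)) :
    Function.Surjective (res h U) := by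
  have e : inclusion h ⁻¹ᵁ (K.subschemeι ⁻¹ᵁ U) = I.subschemeι ⁻¹ᵁ U := by
    rw [← Scheme.Hom.comp_preimage, inclusion_subschemeι]
  intro y
  obtain ⟨x, hx⟩ := (inclusion h).app_surjective _ hU
    (I.subscheme.presheaf.map (eqToHom e).op y)
  refine ⟨x, ?_⟩
  have : res h U x = I.subscheme.presheaf.map (eqToHom e.symm).op
      ((inclusion h).app (K.subschemeι ⁻¹ᵁ U) x) := by
    simp only [res, Scheme.Hom.appLE, CommRingCat.comp_apply]
    rfl
  rw [this, hx]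
  simp

theorem mem_primeIdeal_iff {Z : Scheme.{u}} {A : Z.Opens} (hA : IsAffineOpen A) {t : Z}
    (ht : t ∈ A) (g : Γ(Z, A)) :
    t ∈ Z.basicOpen g ↔ g ∉ (hA.primeIdealOf ⟨t, ht⟩).asIdeal := by
  have h1 : (hA.primeIdealOf ⟨t, ht⟩ ∈ hA.fromSpec ⁻¹ᵁ Z.basicOpen g) ↔
      (hA.primeIdealOf ⟨t, ht⟩ ∈ PrimeSpectrum.basicOpen g) := by
    rw [hA.fromSpec_preimage_basicOpen g]
    exact Iff.rfl
  have h2 : hA.fromSpec (hA.primeIdealOf ⟨t, ht⟩) ∈ Z.basicOpen g ↔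
      g ∉ (hA.primeIdealOf ⟨t, ht⟩).asIdeal := h1
  rwa [hA.fromSpec_primeIdealOf] at h2

variable (I J) in
theorem mem_range_inclusion_inf (x : (I ⊓ J).subscheme) :
    (∃ y, inclusion (inf_le_left : I ⊓ J ≤ I) y = x) ∨
      ∃ y, inclusion (inf_le_right : I ⊓ J ≤ J) y = x := by
  have hx : (I ⊓ J).subschemeι x ∈ (I ⊓ J).support := by
    show _ ∈ ((I ⊓ J).support : Set X)
    rw [← range_subschemeι]; exact ⟨x, rfl⟩
  obtain ⟨_, ⟨V, hV, rfl⟩, hxV, -⟩ := X.isBasis_affineOpens.exists_subset_of_mem_open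
    (Set.mem_univ ((I ⊓ J).subschemeι x)) isOpen_univ
  rw [mem_support_iff_of_mem (U := ⟨V, hV⟩) hxV] at hx
  have key : (I ⊓ J).subschemeι x ∈ (I.support : Set X) ∨
      (I ⊓ J).subschemeι x ∈ (J.support : Set X) := by
    by_contra hc
    simp only [not_or, SetLike.mem_coe, mem_support_iff_of_mem (U := ⟨V, hV⟩) hxV,
      Scheme.mem_zeroLocus_iff, not_forall] at hc
    obtain ⟨⟨f, hf, hf'⟩, ⟨g, hg, hg'⟩⟩ := hc
    rw [Scheme.mem_zeroLocus_iff] at hx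
    refine hx (f * g) ?_ ?_
    · rw [ideal_inf]
      exact ⟨Ideal.mul_mem_right _ _ hf, Ideal.mul_mem_left _ _ hg⟩
    · rw [Scheme.basicOpen_mul]
      exact ⟨not_not.1 hf', not_not.1 hg'⟩
  rw [← range_subschemeι, ← range_subschemeι] at key
  rcases key with ⟨y, hy⟩ | ⟨y, hy⟩
  · exact Or.inl ⟨y, (I ⊓ J).subschemeι.isClosedEmbedding.injective
      (by rw [subschemeι_inclusion_apply, hy])⟩
  · exact Or.inr ⟨y, (I ⊓ J).subschemeι.isClosedEmbedding.injective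
      (by rw [subschemeι_inclusion_apply, hy])⟩

theorem eq_zero_of_res_eq_zero (U : X.Opens)
    (r : Γ((I ⊓ J).subscheme, (I ⊓ J).subschemeι ⁻¹ᵁ U))
    (h₁ : res inf_le_left U r = (0 : Γ(I.subscheme, I.subschemeι ⁻¹ᵁ U)))
    (h₂ : res inf_le_right U r = (0 : Γ(J.subscheme, J.subschemeι ⁻¹ᵁ U))) : r = 0 := by
  refine TopCat.Sheaf.eq_of_locally_eq' (I ⊓ J).subscheme.sheaf
    (fun V : {V : X.affineOpens // V.1 ≤ U} => (I ⊓ J).subschemeι ⁻¹ᵁ V.1.1) _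
    (fun V => homOfLE ((I ⊓ J).subschemeι.preimage_mono V.2)) ?_ r 0 fun V => ?_
  · intro x hx
    obtain ⟨_, ⟨V, hV, rfl⟩, hxV, hVU⟩ := X.isBasis_affineOpens.exists_subset_of_mem_open
      (show (I ⊓ J).subschemeι x ∈ (U : Set X) from hx) U.2
    exact Opens.mem_iSup.2 ⟨⟨⟨V, hV⟩, hVU⟩, hxV⟩
  · obtain ⟨V, hVU⟩ := V
    have e₁ := res_map (inf_le_left : I ⊓ J ≤ I) hVU r
    have e₂ := res_map (inf_le_right : I ⊓ J ≤ J) hVU r
    rw [h₁, map_zero] at e₁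
    rw [h₂, map_zero] at e₂
    obtain ⟨α, hα⟩ := (I ⊓ J).subschemeι_app_surjective V
      ((I ⊓ J).subscheme.presheaf.map (homOfLE ((I ⊓ J).subschemeι.preimage_mono hVU)).op r)
    rw [← hα, res_app] at e₁ e₂
    have m₁ : α ∈ I.ideal V := by rw [← ker_subschemeι_app]; exact e₁
    have m₂ : α ∈ J.ideal V := by rw [← ker_subschemeι_app]; exact e₂
    have m : α ∈ (I ⊓ J).ideal V := by rw [ideal_inf]; exact ⟨m₁, m₂⟩
    rw [← ker_subschemeι_app, RingHom.mem_ker] at m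
    simp only [map_zero]
    exact hα.symm.trans m

theorem exists_glue (U : X.Opens) (a : Γ(I.subscheme, I.subschemeι ⁻¹ᵁ U))
    (b : Γ(J.subscheme, J.subschemeι ⁻¹ᵁ U))
    (h : res (le_sup_left : I ≤ I ⊔ J) U a = res (le_sup_right : J ≤ I ⊔ J) U b) :
    ∃ r, res (inf_le_left : I ⊓ J ≤ I) U r = a ∧ res (inf_le_right : I ⊓ J ≤ J) U r = b := by
  let ι' := {V : X.affineOpens // V.1 ≤ U}
  have hloc : ∀ V : ι', ∃ r,
      res (inf_le_left : I ⊓ J ≤ I) V.1.1 r =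
        I.subscheme.presheaf.map (homOfLE (I.subschemeι.preimage_mono V.2)).op a ∧
      res (inf_le_right : I ⊓ J ≤ J) V.1.1 r =
        J.subscheme.presheaf.map (homOfLE (J.subschemeι.preimage_mono V.2)).op b := by
    rintro ⟨V, hVU⟩
    obtain ⟨α, hα⟩ := I.subschemeι_app_surjective V
      (I.subscheme.presheaf.map (homOfLE (I.subschemeι.preimage_mono hVU)).op a)
    obtain ⟨β, hβ⟩ := J.subschemeι_app_surjective V
      (J.subscheme.presheaf.map (homOfLE (J.subschemeι.preimage_mono hVU)).op b)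
    have hk : α - β ∈ (I ⊔ J).ideal V := by
      rw [← ker_subschemeι_app, RingHom.mem_ker, map_sub, sub_eq_zero]
      rw [← res_app (le_sup_left : I ≤ I ⊔ J) V.1 α, ← res_app (le_sup_right : J ≤ I ⊔ J) V.1 β,
        hα, hβ, res_map _ hVU a, res_map _ hVU b, h]
    rw [ideal_sup, Pi.sup_apply, Submodule.mem_sup] at hk
    obtain ⟨x, hx, y, hy, hxy⟩ := hk
    rw [← ker_subschemeι_app, RingHom.mem_ker] at hx hy
    refine ⟨(I ⊓ J).subschemeι.app V.1 (α - x), ?_, ?_⟩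
    · rw [res_app, map_sub, hx, sub_zero, hα]
    · rw [res_app, show α - x = β + y by linear_combination -hxy, map_add, hy, add_zero, hβ]
  choose sf hsf₁ hsf₂ using hloc
  have hcompat : TopCat.Presheaf.IsCompatible (I ⊓ J).subscheme.sheaf.1
      (fun V : ι' => (I ⊓ J).subschemeι ⁻¹ᵁ V.1.1) sf := by
    intro V V'
    suffices (I ⊓ J).subscheme.presheaf.map (homOfLE ((I ⊓ J).subschemeι.preimage_mono
          (inf_le_left : V.1.1 ⊓ V'.1.1 ≤ V.1.1))).op (sf V) =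
        (I ⊓ J).subscheme.presheaf.map (homOfLE ((I ⊓ J).subschemeι.preimage_mono
          (inf_le_right : V.1.1 ⊓ V'.1.1 ≤ V'.1.1))).op (sf V') from this
    apply sub_eq_zero.1
    refine eq_zero_of_res_eq_zero (I := I) (J := J) (V.1.1 ⊓ V'.1.1) _ ?_ ?_
    · rw [map_sub, sub_eq_zero]
      refine (res_map _ (inf_le_left : V.1.1 ⊓ V'.1.1 ≤ _) _).trans
        (Eq.trans ?_ (res_map _ (inf_le_right : V.1.1 ⊓ V'.1.1 ≤ _) _).symm)
      rw [hsf₁, hsf₁]
      simp only [← CommRingCat.comp_apply, ← Functor.map_comp, ← op_comp, homOfLE_comp]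
    · rw [map_sub, sub_eq_zero]
      refine (res_map _ (inf_le_left : V.1.1 ⊓ V'.1.1 ≤ _) _).trans
        (Eq.trans ?_ (res_map _ (inf_le_right : V.1.1 ⊓ V'.1.1 ≤ _) _).symm)
      rw [hsf₂, hsf₂]
      simp only [← CommRingCat.comp_apply, ← Functor.map_comp, ← op_comp, homOfLE_comp]
  obtain ⟨r, hr, -⟩ := TopCat.Sheaf.existsUnique_gluing' (I ⊓ J).subscheme.sheaf _
    ((I ⊓ J).subschemeι ⁻¹ᵁ U) (fun V : ι' => homOfLE ((I ⊓ J).subschemeι.preimage_mono V.2))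
    (by
      intro x hx
      obtain ⟨_, ⟨V, hV, rfl⟩, hxV, hVU⟩ := X.isBasis_affineOpens.exists_subset_of_mem_open
        (show (I ⊓ J).subschemeι x ∈ (U : Set X) from hx) U.2
      exact Opens.mem_iSup.2 ⟨⟨⟨V, hV⟩, hVU⟩, hxV⟩) sf hcompat
  refine ⟨r, ?_, ?_⟩
  · refine TopCat.Sheaf.eq_of_locally_eq' I.subscheme.sheaf
      (fun V : ι' => I.subschemeι ⁻¹ᵁ V.1.1) _
      (fun V => homOfLE (I.subschemeι.preimage_mono V.2)) ?_ _ _ fun V => ?_
    · intro x hx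
      obtain ⟨_, ⟨V, hV, rfl⟩, hxV, hVU⟩ := X.isBasis_affineOpens.exists_subset_of_mem_open
        (show I.subschemeι x ∈ (U : Set X) from hx) U.2
      exact Opens.mem_iSup.2 ⟨⟨⟨V, hV⟩, hVU⟩, hxV⟩
    · refine (res_map _ V.2 r).symm.trans ?_
      rw [show (I ⊓ J).subscheme.presheaf.map _ r = sf V from hr V, hsf₁]
      rfl
  · refine TopCat.Sheaf.eq_of_locally_eq' J.subscheme.sheaf
      (fun V : ι' => J.subschemeι ⁻¹ᵁ V.1.1) _
      (fun V => homOfLE (J.subschemeι.preimage_mono V.2)) ?_ _ _ fun V => ?_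
    · intro x hx
      obtain ⟨_, ⟨V, hV, rfl⟩, hxV, hVU⟩ := X.isBasis_affineOpens.exists_subset_of_mem_open
        (show J.subschemeι x ∈ (U : Set X) from hx) U.2
      exact Opens.mem_iSup.2 ⟨⟨⟨V, hV⟩, hVU⟩, hxV⟩
    · refine (res_map _ V.2 r).symm.trans ?_
      rw [show (I ⊓ J).subscheme.presheaf.map _ r = sf V from hr V, hsf₂]
      rfl

theorem exists_affine_basicOpen (U : X.Opens) (hI : IsAffineOpen (I.subschemeι ⁻¹ᵁ U))
    (hJ : IsAffineOpen (J.subschemeι ⁻¹ᵁ U)) (y : I.subscheme) (hy : y ∈ I.subschemeι ⁻¹ᵁ U) :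
    ∃ r : Γ((I ⊓ J).subscheme, (I ⊓ J).subschemeι ⁻¹ᵁ U),
      IsAffineOpen ((I ⊓ J).subscheme.basicOpen r) ∧
      y ∈ I.subscheme.basicOpen (res inf_le_left U r) := by
  obtain ⟨_, ⟨V, hV, rfl⟩, hyV, hVU⟩ := X.isBasis_affineOpens.exists_subset_of_mem_open
    (show I.subschemeι y ∈ (U : Set X) from hy) U.2
  obtain ⟨a, hya, ha⟩ := exists_basicOpen_le_of_finite hI (I.subschemeι ⁻¹ᵁ V) {y}
    (Set.finite_singleton y) (fun z hz => hz ▸ hy) (fun z hz => hz ▸ hyV)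
  have hP : IsAffineOpen ((I ⊔ J).subschemeι ⁻¹ᵁ U) := by
    have e : inclusion (le_sup_left : I ≤ I ⊔ J) ⁻¹ᵁ (I.subschemeι ⁻¹ᵁ U) =
        (I ⊔ J).subschemeι ⁻¹ᵁ U := by
      rw [← Scheme.Hom.comp_preimage, inclusion_subschemeι]
    exact e ▸ hI.preimage _
  set C : Set (PrimeSpectrum Γ(J.subscheme, J.subschemeι ⁻¹ᵁ U)) :=
    (hJ.fromSpec ⁻¹' ((J.subschemeι ⁻¹ᵁ V : J.subscheme.Opens) : Set J.subscheme))ᶜ with hC
  have hCcl : IsClosed C :=
    ((J.subschemeι ⁻¹ᵁ V).2.preimage hJ.fromSpec.continuous).isClosed_compl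
  set Iv := PrimeSpectrum.vanishingIdeal C
  have hrad : res (le_sup_left : I ≤ I ⊔ J) U a ∈
      (Iv.map (res (le_sup_right : J ≤ I ⊔ J) U).hom).radical := by
    rw [Ideal.radical_eq_sInf, Submodule.mem_sInf]
    rintro P ⟨hle, hPp⟩
    by_contra hna
    let 𝔭 : PrimeSpectrum Γ((I ⊔ J).subscheme, (I ⊔ J).subschemeι ⁻¹ᵁ U) := ⟨P, hPp⟩
    obtain ⟨z, hzmem, hz⟩ : ∃ z, ∃ hz : z ∈ (I ⊔ J).subschemeι ⁻¹ᵁ U,
        hP.primeIdealOf ⟨z, hz⟩ = 𝔭 := by
      have hr : hP.fromSpec 𝔭 ∈ (I ⊔ J).subschemeι ⁻¹ᵁ U := by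
        have : hP.fromSpec 𝔭 ∈ Set.range hP.fromSpec := ⟨𝔭, rfl⟩
        rwa [hP.range_fromSpec] at this
      exact ⟨_, hr, hP.fromSpec.isOpenEmbedding.injective (hP.fromSpec_primeIdealOf _)⟩
    have hza : z ∈ (I ⊔ J).subscheme.basicOpen (res (le_sup_left : I ≤ I ⊔ J) U a) := by
      rw [mem_primeIdeal_iff hP hzmem, hz]
      exact hna
    rw [basicOpen_res_eq] at hza
    have hzV : I.subschemeι (inclusion (le_sup_left : I ≤ I ⊔ J) z) ∈ V := ha hza.2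
    rw [subschemeι_inclusion_apply] at hzV
    have hzJ := le_preimage_inclusion (le_sup_right : J ≤ I ⊔ J) U hzmem
    have hcomap : (hP.primeIdealOf ⟨z, hzmem⟩).comap
        (res (le_sup_right : J ≤ I ⊔ J) U).hom = hJ.primeIdealOf ⟨_, hzJ⟩ :=
      IsAffineOpen.comap_primeIdealOf_appLE (f := inclusion (le_sup_right : J ≤ I ⊔ J))
        _ hJ _ hP (le_preimage_inclusion (le_sup_right : J ≤ I ⊔ J) U) hzmem
    have hin : hJ.primeIdealOf ⟨_, hzJ⟩ ∈ C := by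
      rw [← hCcl.closure_eq, ← PrimeSpectrum.zeroLocus_vanishingIdeal_eq_closure, ← hcomap, hz]
      exact Ideal.map_le_iff_le_comap.1 hle
    apply hin
    show J.subschemeι (hJ.fromSpec (hJ.primeIdealOf ⟨_, hzJ⟩)) ∈ V
    rw [hJ.fromSpec_primeIdealOf, subschemeι_inclusion_apply]
    exact hzV
  obtain ⟨n, hn⟩ := hrad
  have hn' := Ideal.mul_mem_left _ (res (le_sup_left : I ≤ I ⊔ J) U a) hn
  rw [← pow_succ'] at hn'
  obtain ⟨b, hb, hab⟩ := (Ideal.mem_map_iff_of_surjective _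
    (res_surjective (le_sup_right : J ≤ I ⊔ J) U hJ)).1 hn'
  obtain ⟨r, hr₁, hr₂⟩ := exists_glue U (a ^ (n + 1)) b (by rw [map_pow]; exact hab.symm)
  refine ⟨r, ?_, ?_⟩
  · have hle : (I ⊓ J).subscheme.basicOpen r ≤ (I ⊓ J).subschemeι ⁻¹ᵁ V := by
      intro x hx
      show (I ⊓ J).subschemeι x ∈ V
      have hxU : (I ⊓ J).subschemeι x ∈ U := (I ⊓ J).subscheme.basicOpen_le r hx
      rcases mem_range_inclusion_inf I J x with ⟨z, rfl⟩ | ⟨z, rfl⟩
      · rw [subschemeι_inclusion_apply] at hxU ⊢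
        have := (basicOpen_res_eq inf_le_left U r z).2 ⟨hxU, hx⟩
        rw [hr₁, Scheme.basicOpen_pow _ _ n.succ_pos] at this
        exact ha this
      · rw [subschemeι_inclusion_apply] at hxU ⊢
        have := (basicOpen_res_eq inf_le_right U r z).2 ⟨hxU, hx⟩
        rw [hr₂, mem_primeIdeal_iff hJ hxU] at this
        by_contra hc
        refine this ((PrimeSpectrum.mem_vanishingIdeal _ _).1 hb _ ?_)
        show ¬ hJ.fromSpec _ ∈ J.subschemeι ⁻¹ᵁ V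
        rw [hJ.fromSpec_primeIdealOf]
        exact hc
    have h2 : (I ⊓ J).subscheme.basicOpen r = (I ⊓ J).subscheme.basicOpen
        ((I ⊓ J).subscheme.presheaf.map
          (homOfLE ((I ⊓ J).subschemeι.preimage_mono hVU)).op r) := by
      rw [Scheme.basicOpen_res]
      exact (inf_eq_right.2 hle).symm
    rw [h2]
    exact (hV.preimage _).basicOpen _
  · rw [hr₁, Scheme.basicOpen_pow _ _ n.succ_pos]
    exact hya y rfl

theorem isAffineOpen_preimage_inf (U : X.Opens) (hI : IsAffineOpen (I.subschemeι ⁻¹ᵁ U))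
    (hJ : IsAffineOpen (J.subschemeι ⁻¹ᵁ U)) :
    IsAffineOpen ((I ⊓ J).subschemeι ⁻¹ᵁ U) := by
  set s := {r : Γ((I ⊓ J).subscheme, (I ⊓ J).subschemeι ⁻¹ᵁ U) |
    IsAffineOpen ((I ⊓ J).subscheme.basicOpen r)}
  refine isAffineOpen_of_isAffineOpen_basicOpen _ s ?_ fun r hr => hr
  have hswap : ∀ y : J.subscheme, y ∈ J.subschemeι ⁻¹ᵁ U → ∃ r ∈ s,
      y ∈ J.subscheme.basicOpen (res (inf_le_right : I ⊓ J ≤ J) U r) := by
    intro y hy
    have gen : ∀ (K : X.IdealSheafData) (hK : J ⊓ I = K) (h : K ≤ J),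
        ∃ r : Γ(K.subscheme, K.subschemeι ⁻¹ᵁ U), IsAffineOpen (K.subscheme.basicOpen r) ∧
          y ∈ J.subscheme.basicOpen (res h U r) := by
      rintro K rfl h
      exact exists_affine_basicOpen U hJ hI y hy
    exact gen _ (inf_comm _ _) inf_le_right
  have htop₁ : (Ideal.span s).map (res (inf_le_left : I ⊓ J ≤ I) U).hom = ⊤ := by
    rw [Ideal.map_span, ← hI.self_le_iSup_basicOpen_iff]
    intro y hy
    obtain ⟨r, hr, hyr⟩ := exists_affine_basicOpen (J := J) U hI hJ y hy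
    exact Opens.mem_iSup.2 ⟨⟨_, r, hr, rfl⟩, hyr⟩
  have htop₂ : (Ideal.span s).map (res (inf_le_right : I ⊓ J ≤ J) U).hom = ⊤ := by
    rw [Ideal.map_span, ← hJ.self_le_iSup_basicOpen_iff]
    intro y hy
    obtain ⟨r, hr, hyr⟩ := hswap y hy
    exact Opens.mem_iSup.2 ⟨⟨_, r, hr, rfl⟩, hyr⟩
  have hsurj : ∀ {L : X.IdealSheafData} (h : I ⊓ J ≤ L),
      (Ideal.span s).map (res h U).hom = ⊤ →
      Function.Surjective (res h U) → ∃ x ∈ Ideal.span s, res h U x = 1 := by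
    intro L h ht hs
    exact (Ideal.mem_map_iff_of_surjective _ hs).1 (ht ▸ Submodule.mem_top)
  obtain ⟨x, hx, hx1⟩ : ∃ x ∈ Ideal.span s, res (inf_le_left : I ⊓ J ≤ I) U x = 1 := by
    refine hsurj _ htop₁ fun a => ?_
    obtain ⟨b, hb⟩ := res_surjective (le_sup_right : J ≤ I ⊔ J) U hJ (res le_sup_left U a)
    obtain ⟨r, hr, -⟩ := exists_glue U a b hb.symm
    exact ⟨r, hr⟩
  obtain ⟨y, hy, hy1⟩ : ∃ y ∈ Ideal.span s, res (inf_le_right : I ⊓ J ≤ J) U y = 1 := by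
    refine hsurj _ htop₂ fun b => ?_
    obtain ⟨a, ha⟩ := res_surjective (le_sup_left : I ≤ I ⊔ J) U hI (res le_sup_right U b)
    obtain ⟨r, -, hr⟩ := exists_glue U a b ha
    exact ⟨r, hr⟩
  have h0 : (1 - x) * (1 - y) = 0 :=
    eq_zero_of_res_eq_zero U _ (by simp [hx1]) (by simp [hy1])
  rw [Ideal.eq_top_iff_one, show (1 : Γ((I ⊓ J).subscheme, (I ⊓ J).subschemeι ⁻¹ᵁ U)) =
    x + y - x * y by linear_combination h0]
  exact sub_mem (add_mem hx hy) (Ideal.mul_mem_left _ _ hy)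

end Groth.Agent.AffineComp
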