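import Groth.Agent.AffineComp.Inf
import Groth.Agent.ThickAffine.General

/-! An affine open containing a finite set of points exists if one exists on each component. -/

set_option autoImplicit false
universe u
open CategoryTheory AlgebraicGeometry TopologicalSpace

namespace Groth.Agent.AffineComp

open Scheme.IdealSheafData

variable {X : Scheme.{u}}

theorem exists_open_union (T : Set X) (hT : T.Finite) (C D : Closeds X)
    (hC : ∃ U : X.Opens, (∀ t ∈ T, t ∈ C → t ∈ U) ∧
      IsAffineOpen ((vanishingIdeal C).subschemeι ⁻¹ᵁ U))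
    (hD : ∃ U : X.Opens, (∀ t ∈ T, t ∈ D → t ∈ U) ∧
      IsAffineOpen ((vanishingIdeal D).subschemeι ⁻¹ᵁ U)) :
    ∃ U : X.Opens, (∀ t ∈ T, t ∈ C ⊔ D → t ∈ U) ∧
      IsAffineOpen ((vanishingIdeal (C ⊔ D)).subschemeι ⁻¹ᵁ U) := by
  obtain ⟨UC, hTC, hUC⟩ := hC
  obtain ⟨UD, hTD, hUD⟩ := hD
  have hmem : ∀ (E : Closeds X) (y : (vanishingIdeal E).subscheme),
      (vanishingIdeal E).subschemeι y ∈ E := by
    intro E y
    have : (vanishingIdeal E).subschemeι y ∈ ((vanishingIdeal E).support : Set X) := by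
      rw [← range_subschemeι]; exact ⟨y, rfl⟩
    rwa [coe_support_vanishingIdeal] at this
  obtain ⟨U, hTU, hU₁, hU₂⟩ := exists_open_two (vanishingIdeal C) (vanishingIdeal D)
    (T ∩ ((C ⊔ D : Closeds X) : Set X)) (hT.inter_of_left _)
    _ hUC (fun y hy => hTC _ hy.1 (hmem C y)) _ hUD (fun y hy => hTD _ hy.1 (hmem D y))
  refine ⟨U, fun t ht ht' => hTU t ⟨ht, ht'⟩, ?_⟩
  rw [vanishingIdeal_sup]
  exact isAffineOpen_preimage_inf U hU₁ hU₂

theorem exists_affineOpen_of_per_component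
    (hX : (irreducibleComponents (X : Type u)).Finite) (T : Finset X)
    (h : ∀ (Z : Set X) (hZ : Z ∈ irreducibleComponents (X : Type u)),
      ∃ V : (vanishingIdeal
          (⟨Z, isClosed_of_mem_irreducibleComponents Z hZ⟩ : Closeds X)).subscheme.Opens,
        IsAffineOpen V ∧ ∀ t ∈ T, t ∈ Z → t ∈ (vanishingIdeal
          (⟨Z, isClosed_of_mem_irreducibleComponents Z hZ⟩ : Closeds X)).subschemeι.base ''
            (V : Set _)) :
    ∃ U : X.Opens, IsAffineOpen U ∧ ∀ t ∈ T, t ∈ U := by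
  classical
  have : Finite ↥(irreducibleComponents (X : Type u)) := hX.to_subtype
  have := Fintype.ofFinite ↥(irreducibleComponents (X : Type u))
  let f : ↥(irreducibleComponents (X : Type u)) → Closeds X :=
    fun Z => ⟨Z.1, isClosed_of_mem_irreducibleComponents Z.1 Z.2⟩
  let P : Closeds X → Prop := fun C => ∃ U : X.Opens, (∀ t ∈ (T : Set X), t ∈ C → t ∈ U) ∧
    IsAffineOpen ((vanishingIdeal C).subschemeι ⁻¹ᵁ U)
  have hbot : P ⊥ := by
    refine ⟨⊥, fun t _ ht => ht.elim, ?_⟩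
    rw [Scheme.Hom.preimage_bot]
    exact isAffineOpen_bot _
  have hcomp : ∀ Z, P (f Z) := by
    intro Z
    obtain ⟨V, hV, hTV⟩ := h Z.1 Z.2
    obtain ⟨W, hW, hWV⟩ :=
      ((vanishingIdeal (f Z)).subschemeι.isClosedEmbedding.isInducing.isOpen_iff).1 V.2
    have hpre : (vanishingIdeal (f Z)).subschemeι ⁻¹ᵁ ⟨W, hW⟩ = V := Opens.ext hWV
    refine ⟨⟨W, hW⟩, ?_, hpre ▸ hV⟩
    intro t ht htZ
    obtain ⟨y, hy, rfl⟩ := hTV t ht htZ
    exact Set.ext_iff.1 hWV y |>.2 hy
  have hsup : P (Finset.univ.sup f) :=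
    Finset.sup_induction hbot (fun C hC D hD => exists_open_union _ T.finite_toSet C D hC hD)
      (fun Z _ => hcomp Z)
  have htop : Finset.univ.sup f = ⊤ := by
    refine top_le_iff.1 fun x _ => ?_
    have hx := irreducibleComponent_mem_irreducibleComponents x
    exact Finset.le_sup (f := f) (Finset.mem_univ ⟨_, hx⟩) mem_irreducibleComponent
  rw [htop] at hsup
  obtain ⟨U, hTU, hU⟩ := hsup
  refine ⟨U, ?_, fun t ht => hTU t ht trivial⟩
  have : Surjective (vanishingIdeal (⊤ : Closeds X)).subschemeι := ⟨fun x => by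
    have : x ∈ Set.range (vanishingIdeal (⊤ : Closeds X)).subschemeι := by
      rw [range_subschemeι, coe_support_vanishingIdeal]; trivial
    exact this⟩
  have hs : Surjective ((vanishingIdeal (⊤ : Closeds X)).subschemeι ∣_ U) :=
    IsZariskiLocalAtTarget.restrict this U
  have hc : IsClosedImmersion ((vanishingIdeal (⊤ : Closeds X)).subschemeι ∣_ U) :=
    IsZariskiLocalAtTarget.restrict (P := @IsClosedImmersion) inferInstance U
  have : IsAffine ((vanishingIdeal (⊤ : Closeds X)).subschemeι ⁻¹ᵁ U).toScheme := hU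
  exact ThickAffine.isAffine_of_thickening ((vanishingIdeal (⊤ : Closeds X)).subschemeι ∣_ U)

end Groth.Agent.AffineComp
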